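import Groth.Agent.SmoothPtLib.Algebra
import Groth.Agent.NodalLib.StalkSmooth
import Groth.Agent.NodalLib.NodeFacts
import Groth.Agent.CohenLib.FSField
import Groth.Agent.CurvOpenLib.Smooth
import Groth.Agent.FibDimLib.Comps
import Groth.Agent.FibDimLib.Formula
import Groth.Agent.OmegaAffLib.Universal
import Groth.Agent.CohCmpLib.OmegaRank
import Groth.Agent.SmoothDimLib.Omega
import Groth.Prelude.Def_FixPt

/-!
# Smooth morphisms of smooth varieties through the tangent maps
-/

set_option autoImplicit false
set_option linter.style.haveILetI false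
set_option linter.unusedSectionVars false
set_option maxHeartbeats 1000000

universe u

open CategoryTheory CategoryTheory.Limits AlgebraicGeometry TopologicalSpace

noncomputable section

namespace SmoothPtLib

variable {k : Type u} [Field k]

theorem bijective_residue [IsAlgClosed k] {X : Scheme.{u}} [X.Over (Spec (CommRingCat.of k))]
    [LocallyOfFiniteType (X ↘ Spec (CommRingCat.of k))] {x : X} (hx : IsClosed ({x} : Set X)) :
    letI := Curv2.stalkAlgebra k X x
    Function.Bijective (algebraMap k (IsLocalRing.ResidueField (X.presheaf.stalk x))) := by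
  letI := Curv2.stalkAlgebra k X x
  let p := X ↘ Spec (CommRingCat.of k)
  have hres : Function.Bijective (Curv2.resMap k X x) := by
    have h : Spec.map (CommRingCat.ofHom (Curv2.resMap k X x)) = X.fromSpecResidueField x ≫ p := by
      have hc : CommRingCat.ofHom (Curv2.resMap k X x) =
          (Scheme.ΓSpecIso (CommRingCat.of k)).inv ≫ p.appTop ≫ X.presheaf.germ ⊤ x trivial ≫ X.residue x := rfl
      rw [hc, Spec.map_comp, Spec.map_comp, Spec.map_comp]
      show _ = (Spec.map (X.residue x) ≫ X.fromSpecStalk x) ≫ p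
      simp only [Category.assoc]
      congr 1
      rw [← Scheme.fromSpecStalk_toSpecΓ_assoc, ← Scheme.toSpecΓ_naturality_assoc]
      simp [toSpecΓ_SpecMap_ΓSpecIso_inv]
    have h2 : (residueFieldIsoBase p x hx).inv = CommRingCat.ofHom (Curv2.resMap k X x) :=
      Spec.map_injective ((SpecMap_residueFieldIsoBase_inv p x hx).trans h.symm)
    have h3 := ConcreteCategory.bijective_of_isIso (residueFieldIsoBase p x hx).inv
    rw [h2] at h3
    exact h3
  exact hres

/-- The stalk at a closed point of a smooth irreducible scheme. -/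
theorem stalk_data [IsAlgClosed k] {X : Scheme.{u}} [X.Over (Spec (CommRingCat.of k))] [IrreducibleSpace X]
    [Smooth (X ↘ Spec (CommRingCat.of k))] {d : ℕ} (hX : topologicalKrullDim X = d) {x : X}
    (hx : IsClosed ({x} : Set X)) :
    letI := Curv2.stalkAlgebra k X x
    Algebra.EssFiniteType k (X.presheaf.stalk x) ∧ Algebra.FormallySmooth k (X.presheaf.stalk x) ∧
      Module.finrank (X.presheaf.stalk x) (KaehlerDifferential k (X.presheaf.stalk x)) = d := by
  letI := Curv2.stalkAlgebra k X x
  let p := X ↘ Spec (CommRingCat.of k)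
  haveI hE : Algebra.EssFiniteType k (X.presheaf.stalk x) := NodalLib.essFiniteType_stalk k x
  haveI hF : Algebra.FormallySmooth k (X.presheaf.stalk x) :=
    (NodalLib.mem_smoothLocus_iff_stalk k x).1 (by rw [Scheme.Hom.smoothLocus_eq_top]; trivial)
  refine ⟨hE, hF, ?_⟩
  haveI : IsLocallyNoetherian X := LocallyOfFiniteType.isLocallyNoetherian p
  haveI : IsRegularLocalRing (X.presheaf.stalk x) := CohenLib.isRegularLocalRing_of_formallySmooth (k := k)
  rw [finrank_omega (bijective_residue hx)]
  have h := (IsRegularLocalRing.iff_finrank_cotangentSpace (R := X.presheaf.stalk x)).1 inferInstance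
  rw [← FibDimLib.localDim_eq_stalk_of_isClosed p hx, FibDimLib.localDim_of_irreducible p x, hX] at h
  exact_mod_cast h

/-- The fibre dimension over a field. -/
theorem fibreDimAt_field {X : Scheme.{u}} [IrreducibleSpace X] (p : X ⟶ Spec (CommRingCat.of k))
    [LocallyOfFiniteType p] (x : X) : FlatMor.fibreDimAt p x = topologicalKrullDim X := by
  have hopen : Topology.IsOpenEmbedding (p.fiberι (p x)) := by
    refine ⟨(p.fiberι (p x)).isEmbedding, ?_⟩
    rw [Scheme.Hom.range_fiberι, show p ⁻¹' {p x} = Set.univ from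
      Set.eq_univ_of_forall fun y => Subsingleton.elim (α := PrimeSpectrum k) _ _]
    exact isOpen_univ
  rw [FlatMor.fibreDimAt, ← FibDimLib.localDim_eq_of_isOpenEmbedding hopen]
  exact FibDimLib.localDim_of_irreducible p _

theorem eq_of_add_natCast {a : WithBot ℕ∞} {n d : ℕ} (h : ((d + n : ℕ) : WithBot ℕ∞) = a + d) : a = n := by
  induction a with
  | bot => simp at h
  | coe a =>
    induction a with
    | top =>
      have : ((d + n : ℕ) : ℕ∞) = ⊤ + (d : ℕ∞) := by exact_mod_cast h
      rw [top_add] at this
      exact absurd this (ENat.natCast_ne_top _)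
    | coe a =>
      have : d + n = a + d := by exact_mod_cast h
      have : a = n := by omega
      rw [this]
      rfl

/-- Generators of the differentials on a chart generate those of the local rings. -/
theorem span_map_eq_top {R S A B : Type u} [CommRing R] [CommRing S] [CommRing A] [CommRing B] [Algebra R S]
    [Algebra R A] [Algebra S B] [Algebra A B] [Algebra R B] [IsScalarTower R A B] [IsScalarTower R S B]
    [SMulCommClass A S B]
    (M : Submonoid S) [IsLocalization M B] {n : ℕ} (b : Fin n → Ω[S⁄R])
    (hb : Submodule.span S (Set.range b) = ⊤) :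
    Submodule.span B (Set.range fun i => KaehlerDifferential.map R A S B (b i)) = ⊤ := by
  let P := Submodule.span B (Set.range fun i => KaehlerDifferential.map R A S B (b i))
  have hmem : ∀ w, KaehlerDifferential.map R A S B w ∈ P := fun w => by
    have : w ∈ (P.restrictScalars S).comap (KaehlerDifferential.map R A S B) := by
      refine Submodule.span_le.2 ?_ (hb.ge (Submodule.mem_top : w ∈ ⊤))
      rintro _ ⟨i, rfl⟩
      exact Submodule.subset_span ⟨i, rfl⟩
    exact this
  refine eq_top_iff.2 ?_
  rw [← KaehlerDifferential.span_range_derivation, Submodule.span_le]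
  rintro _ ⟨c, rfl⟩
  obtain ⟨⟨s, t⟩, hst⟩ := IsLocalization.surj M c
  have h1 : KaehlerDifferential.D A B (algebraMap S B s) ∈ P := by
    rw [← KaehlerDifferential.map_D R A S B]; exact hmem _
  have h2 : KaehlerDifferential.D A B (algebraMap S B t) ∈ P := by
    rw [← KaehlerDifferential.map_D R A S B]; exact hmem _
  rw [← hst, Derivation.leibniz] at h1
  obtain ⟨u, hu⟩ := IsLocalization.map_units B t
  have h3 : algebraMap S B t • KaehlerDifferential.D A B c ∈ P := by
    have := P.sub_mem h1 (P.smul_mem c h2)
    rwa [add_sub_cancel_left] at this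
  have h4 := P.smul_mem (↑u⁻¹ : B) h3
  rwa [smul_smul, ← hu, Units.inv_mul, one_smul] at h4

section Pair

variable [IsAlgClosed k] {X Y : Scheme.{u}} [X.Over (Spec (CommRingCat.of k))] [Y.Over (Spec (CommRingCat.of k))]
  [IrreducibleSpace X] [IrreducibleSpace Y]
  [Smooth (X ↘ Spec (CommRingCat.of k))] [Smooth (Y ↘ Spec (CommRingCat.of k))]

theorem stalkMapAt_rfl (f : X ⟶ Y) (x : X) : FixPt.stalkMapAt f x (f.base x) rfl = (f.stalkMap x).hom := by
  have h : (Y.presheaf.stalkCongr (Inseparable.of_eq (rfl : f x = f.base x))).inv = 𝟙 _ := by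
    simp [TopCat.Presheaf.stalkCongr]
  rw [FixPt.stalkMapAt, h, Category.id_comp]

theorem stalkMap_tower (f : X ⟶ Y) (hf : f ≫ (Y ↘ Spec (CommRingCat.of k)) = X ↘ Spec (CommRingCat.of k))
    (x : X) (c : k) : (f.stalkMap x).hom (Curv2.stalkMap k Y (f x) c) = Curv2.stalkMap k X x c := by
  show f.stalkMap x (Y.presheaf.germ ⊤ (f x) trivial _) = X.presheaf.germ ⊤ x trivial _
  refine (Scheme.Hom.germ_stalkMap_apply f ⊤ x (trivial : f x ∈ (⊤ : Y.Opens)) _).trans ?_
  have : (X ↘ Spec (CommRingCat.of k)).appTop = (Y ↘ Spec (CommRingCat.of k)).appTop ≫ f.appTop := by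
    rw [← Scheme.Hom.comp_appTop, hf]
  refine congrArg _ ?_
  show f.appTop _ = (X ↘ Spec (CommRingCat.of k)).appTop _
  rw [this]
  rfl

variable {dY n : ℕ} (hY : topologicalKrullDim Y = dY) (hX : topologicalKrullDim X = ((dY + n : ℕ) : WithBot ℕ∞))
  (f : X ⟶ Y) (hf : f ≫ (Y ↘ Spec (CommRingCat.of k)) = X ↘ Spec (CommRingCat.of k))

include hf in
theorem isClosed_image {x : X} (hx : IsClosed ({x} : Set X)) : IsClosed ({f x} : Set Y) := by
  haveI : JacobsonSpace Y := LocallyOfFiniteType.jacobsonSpace (Y ↘ Spec (CommRingCat.of k))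
  haveI : LocallyOfFiniteType (f ≫ (Y ↘ Spec (CommRingCat.of k))) := by rw [hf]; infer_instance
  haveI : LocallyOfFiniteType f := locallyOfFiniteType_of_comp f (Y ↘ Spec (CommRingCat.of k))
  exact f.closePoints_subset_preimage_closedPoints hx

include hY hf in
/-- At a closed point, injectivity of the cotangent map is formal smoothness of the local rings. -/
theorem formallySmooth_iff_injective {dX : ℕ} (hX' : topologicalKrullDim X = dX) {x : X}
    (hx : IsClosed ({x} : Set X)) :
    (Function.Injective (FixPt.cotangentMapAt f x (f.base x) rfl) ↔ (f.stalkMap x).hom.FormallySmooth) ∧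
    (letI := (f.stalkMap x).hom.toAlgebra
      ∀ (n : ℕ) (v : Fin n → KaehlerDifferential (Y.presheaf.stalk (f x)) (X.presheaf.stalk x)), dX = dY + n →
        Submodule.span (X.presheaf.stalk x) (Set.range v) = ⊤ → (f.stalkMap x).hom.FormallySmooth) := by
  let A := Y.presheaf.stalk (f x)
  let B := X.presheaf.stalk x
  letI : Algebra k A := Curv2.stalkAlgebra k Y (f x)
  letI : Algebra k B := Curv2.stalkAlgebra k X x
  letI : Algebra A B := (f.stalkMap x).hom.toAlgebra
  haveI : IsScalarTower k A B := IsScalarTower.of_algebraMap_eq fun c => (stalkMap_tower f hf x c).symm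
  haveI : IsLocalHom (algebraMap A B) := inferInstanceAs (IsLocalHom (f.stalkMap x).hom)
  obtain ⟨hEA, hFA, hdA⟩ := stalk_data (k := k) hY (isClosed_image f hf hx)
  obtain ⟨hEB, hFB, hdB⟩ := stalk_data (k := k) hX' hx
  have hB := bijective_residue (k := k) hx
  have hle : IsLocalRing.maximalIdeal A ≤ (IsLocalRing.maximalIdeal B).comap (algebraMap A B).toIntAlgHom :=
    fun a ha => map_nonunit (algebraMap A B) a ha
  have hcot : FixPt.cotangentMapAt f x (f.base x) rfl =
      Ideal.mapCotangent (IsLocalRing.maximalIdeal A) (IsLocalRing.maximalIdeal B) (algebraMap A B).toIntAlgHom hle := by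
    refine LinearMap.ext fun z => ?_
    obtain ⟨a, rfl⟩ := Ideal.toCotangent_surjective _ z
    refine (Ideal.mapCotangent_toCotangent _ _ _ _ _).trans (Eq.trans ?_ (Ideal.mapCotangent_toCotangent _ _ _ _ _).symm)
    refine congrArg _ (Subtype.ext ?_)
    show FixPt.stalkMapAt f x (f.base x) rfl a.1 = _
    rw [stalkMapAt_rfl]
    rfl
  refine ⟨?_, fun n v hn hv => ?_⟩
  · rw [hcot, injective_iff hB hle]
    constructor
    · intro h
      haveI := formallySmooth_of_injective hB h
      exact RingHom.formallySmooth_algebraMap.2 ‹Algebra.FormallySmooth A B›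
    · intro h
      haveI : Algebra.FormallySmooth A B := RingHom.formallySmooth_algebraMap.1 h
      exact injective_of_formallySmooth hB
  · haveI := formallySmooth_of_injective hB (injective_of_span (n := n) hB hdA (hdB.trans hn) v hv)
    exact RingHom.formallySmooth_algebraMap.2 ‹Algebra.FormallySmooth A B›

include hY hX hf in
/-- Injectivity of the cotangent map is formal smoothness, and follows from `n` generators. -/
theorem point_criterion {x : X} (hx : IsClosed ({x} : Set X)) :
    (Function.Injective (FixPt.cotangentMapAt f x (f.base x) rfl) ↔ (f.stalkMap x).hom.FormallySmooth) ∧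
    (letI := (f.stalkMap x).hom.toAlgebra
      ∀ v : Fin n → KaehlerDifferential (Y.presheaf.stalk (f x)) (X.presheaf.stalk x),
        Submodule.span (X.presheaf.stalk x) (Set.range v) = ⊤ → (f.stalkMap x).hom.FormallySmooth) :=
  ⟨(formallySmooth_iff_injective hY f hf (dX := dY + n) hX hx).1,
    fun v hv => (formallySmooth_iff_injective hY f hf (dX := dY + n) hX hx).2 n v rfl hv⟩

include hf in
/-- Formally smooth at all closed points means smooth. -/
theorem smooth_of_points (h : ∀ x : X, IsClosed ({x} : Set X) → (f.stalkMap x).hom.FormallySmooth) : Smooth f := by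
  let qX := X ↘ Spec (CommRingCat.of k)
  let qY := Y ↘ Spec (CommRingCat.of k)
  haveI : IsLocallyNoetherian Y := LocallyOfFiniteType.isLocallyNoetherian qY
  haveI : LocallyOfFiniteType (f ≫ qY) := by rw [hf]; infer_instance
  haveI : LocallyOfFiniteType f := locallyOfFiniteType_of_comp f qY
  haveI : LocallyOfFinitePresentation f := LocallyOfFinitePresentation.iff_locallyOfFiniteType.2 inferInstance
  haveI : JacobsonSpace X := LocallyOfFiniteType.jacobsonSpace qX
  have htop : f.smoothLocus = ⊤ := by
    refine Opens.ext ?_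
    by_contra hne
    obtain ⟨x, hx, hxc⟩ := nonempty_inter_closedPoints (Z := (f.smoothLocus : Set X)ᶜ)
      (Set.nonempty_compl.2 hne) f.smoothLocus.isOpen.isClosed_compl.isLocallyClosed
    exact hx (h x hxc)
  exact Scheme.Hom.smoothLocus_eq_top_iff.1 htop

include hf in
/-- The dimensions and the fibre dimension. -/
theorem fibreDimAt_add [Smooth f] (x : X) :
    topologicalKrullDim X = FlatMor.fibreDimAt f x + topologicalKrullDim Y := by
  have h1 := FibDimLib.fibreDimAt_comp_of_flat f (Y ↘ Spec (CommRingCat.of k)) x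
  rwa [show FlatMor.fibreDimAt (f ≫ (Y ↘ Spec (CommRingCat.of k))) x =
      FlatMor.fibreDimAt (X ↘ Spec (CommRingCat.of k)) x by rw [hf],
    fibreDimAt_field (X ↘ Spec (CommRingCat.of k)), fibreDimAt_field (Y ↘ Spec (CommRingCat.of k))] at h1

include hY hX hf in
/-- Formally smooth at all closed points means smooth of relative dimension the difference of the dimensions. -/
theorem smoothOfRelativeDimension_of_points
    (h : ∀ x : X, IsClosed ({x} : Set X) → (f.stalkMap x).hom.FormallySmooth) :
    SmoothOfRelativeDimension n f := by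
  haveI : Smooth f := smooth_of_points f hf h
  refine (CurvOpenLib.smoothOfRelativeDimension_iff_forall n f).2 ⟨inferInstance, fun x => ?_⟩
  have h1 := fibreDimAt_add f hf x
  rw [hX, hY] at h1
  exact eq_of_add_natCast h1

include hY hX hf in
/-- Smooth of relative dimension `n` from tangent maps. -/
theorem iff_cotangent : SmoothOfRelativeDimension n f ↔
    ∀ x : X, IsClosed ({x} : Set X) → Function.Injective (FixPt.cotangentMapAt f x (f.base x) rfl) := by
  refine ⟨fun h x hx => ?_, fun h => smoothOfRelativeDimension_of_points hY hX f hf fun x hx =>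
    (point_criterion hY hX f hf hx).1.1 (h x hx)⟩
  haveI := h
  haveI := SmoothOfRelativeDimension.smooth n f
  refine (point_criterion hY hX f hf hx).1.2 ?_
  exact Scheme.Hom.mem_smoothLocus.1 (by rw [Scheme.Hom.smoothLocus_eq_top]; trivial)

include hY hX hf in
/-- Smooth of relative dimension `n` from the differentials. -/
theorem iff_omega [QuasiSeparated f] : SmoothOfRelativeDimension n f ↔
    FlatMod.IsFinLocFreeOfRank n (Omega.sheaf f) := by
  refine ⟨fun h => CohCmpLib.rank_omega f n, fun h => smoothOfRelativeDimension_of_points hY hX f hf fun x hx => ?_⟩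
  obtain ⟨W, hxW, ⟨ψ⟩⟩ := h x
  obtain ⟨U, hU, hxU, -⟩ := exists_isAffineOpen_mem_and_subset (X := Y) (x := f x) (U := ⊤) trivial
  obtain ⟨V, hV, hxV, hle⟩ := exists_isAffineOpen_mem_and_subset (X := X) (x := x) (U := f ⁻¹ᵁ U ⊓ W) ⟨hxU, hxW⟩
  have e : V ≤ f ⁻¹ᵁ U := fun z hz => (hle hz).1
  obtain ⟨b⟩ := FittLib.nonempty_basis_of_iso (Omega.sheaf f) ψ (V := V) (fun z hz => (hle hz).2)
  letI := (f.appLE U V e).hom.toAlgebra
  obtain ⟨φ, -⟩ := OmegaAffLib.exists_equiv (OmegaAffLib.isUniversal_dOmega (f := f)) hU hV e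
  let R := Γ(Y, U)
  let S := Γ(X, V)
  let A := Y.presheaf.stalk (f x)
  let B := X.presheaf.stalk x
  letI : Algebra R A := Y.presheaf.algebra_section_stalk (⟨f x, hxU⟩ : U)
  letI : Algebra S B := X.presheaf.algebra_section_stalk (⟨x, hxV⟩ : V)
  letI : Algebra A B := (f.stalkMap x).hom.toAlgebra
  letI : Algebra R B := ((algebraMap S B).comp (algebraMap R S)).toAlgebra
  haveI : IsScalarTower R S B := IsScalarTower.of_algebraMap_eq fun _ => rfl
  haveI : IsScalarTower R A B := IsScalarTower.of_algebraMap_eq fun r => by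
    show X.presheaf.germ V x hxV (f.appLE U V e r) = f.stalkMap x (Y.presheaf.germ U (f x) hxU r)
    rw [Scheme.Hom.germ_stalkMap_apply, Scheme.Hom.appLE, CommRingCat.comp_apply, TopCat.Presheaf.germ_res_apply]
  haveI : SMulCommClass A S B := ⟨fun a s t => mul_left_comm (algebraMap A B a) (algebraMap S B s) t |>.trans rfl⟩
  haveI : IsLocalization.AtPrime B (hV.primeIdealOf ⟨x, hxV⟩).asIdeal := hV.isLocalization_stalk ⟨x, hxV⟩
  exact (point_criterion hY hX f hf hx).2 _
    (span_map_eq_top (R := R) (S := S) (A := A) (B := B) (hV.primeIdealOf ⟨x, hxV⟩).asIdeal.primeCompl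
      (fun i => φ.symm (b i)) (by
        rw [Set.range_comp' (fun w => φ.symm w) b, ← LinearEquiv.coe_coe, Submodule.span_image, b.span_eq,
          Submodule.map_top, LinearEquiv.range]))

end Pair

end SmoothPtLib
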