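import Mathlib.RingTheory.Smooth.Local
import Mathlib.RingTheory.Kaehler.JacobiZariski
import Mathlib.RingTheory.Smooth.Quotient
import Mathlib.RingTheory.LocalRing.ResidueField.Basic

/-!
# Smoothness of a map of smooth local algebras at rational points
-/

set_option autoImplicit false
set_option linter.style.haveILetI false
set_option linter.unusedSectionVars false
set_option maxHeartbeats 1000000

universe u

open TensorProduct IsLocalRing KaehlerDifferential

noncomputable section

namespace SmoothPtLib

variable {k : Type u} [Field k]

section Conormal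

variable {A : Type u} [CommRing A] [Algebra k A] (K : Type u) [Field K] [Algebra k K] [Algebra A K]
  [IsScalarTower k A K]

/-- At a rational point the conormal module is the fibre of the differentials. -/
theorem exists_conormal_equiv [Algebra.FormallySmooth k A] (hk : Function.Bijective (algebraMap k K))
    (I : Ideal A) (hI : RingHom.ker (algebraMap A K) = I) :
    ∃ e : I.Cotangent ≃ₗ[A] K ⊗[A] Ω[A⁄k], ∀ a, e (I.toCotangent a) = 1 ⊗ₜ D k A a.1 := by
  subst hI
  have hsurj : Function.Surjective (algebraMap A K) := fun z => by
    obtain ⟨c, rfl⟩ := hk.2 z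
    exact ⟨algebraMap k A c, (IsScalarTower.algebraMap_apply k A K c).symm⟩
  haveI : Algebra.FormallySmooth k K :=
    Algebra.FormallySmooth.of_equiv (AlgEquiv.ofBijective (Algebra.ofId k K) hk)
  obtain ⟨l, hl⟩ := (Algebra.FormallySmooth.iff_split_injection (R := k) (P := A) (A := K) hsurj).1 inferInstance
  have hinj : Function.Injective (kerCotangentToTensor k A K) :=
    Function.HasLeftInverse.injective ⟨l, LinearMap.congr_fun hl⟩
  have hsur : Function.Surjective (kerCotangentToTensor k A K) := fun x => by
    haveI : Subsingleton Ω[K⁄k] := KaehlerDifferential.subsingleton_of_surjective _ _ hk.2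
    exact (exact_kerCotangentToTensor_mapBaseChange k A K hsurj x).1 (Subsingleton.elim _ _)
  exact ⟨LinearEquiv.ofBijective _ ⟨hinj, hsur⟩, fun a => rfl⟩

end Conormal

variable {A B : Type u} [CommRing A] [CommRing B] [IsLocalRing A] [IsLocalRing B] [Algebra k A] [Algebra k B]
  [Algebra A B] [IsScalarTower k A B] [IsLocalHom (algebraMap A B)]

/-- The rank of the differentials is the dimension of the cotangent space. -/
theorem finrank_omega [Algebra.FormallySmooth k A] [Algebra.EssFiniteType k A]
    (hA : Function.Bijective (algebraMap k (ResidueField A))) :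
    Module.finrank A Ω[A⁄k] = Module.finrank (ResidueField A) (CotangentSpace A) := by
  haveI : Module.Free A Ω[A⁄k] := Module.free_of_flat_of_isLocalRing
  obtain ⟨e, -⟩ := exists_conormal_equiv (ResidueField A) hA (maximalIdeal A) IsLocalRing.ker_residue
  rw [(e.extendScalarsOfSurjective (S := ResidueField A) IsLocalRing.residue_surjective).finrank_eq,
    Module.finrank_baseChange]

variable (hB : Function.Bijective (algebraMap k (ResidueField B)))

include hB in
theorem ker_residue_comp :
    RingHom.ker (algebraMap A (ResidueField B)) = maximalIdeal A := by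
  ext a
  rw [RingHom.mem_ker, IsScalarTower.algebraMap_apply A B (ResidueField B), IsLocalRing.mem_maximalIdeal,
    mem_nonunits_iff, ← isUnit_map_iff (algebraMap A B) a, ← mem_nonunits_iff, ← IsLocalRing.mem_maximalIdeal]
  exact IsLocalRing.residue_eq_zero_iff _

include hB in
/-- The cotangent map is injective iff the map of differentials is injective at the point. -/
theorem injective_iff [Algebra.FormallySmooth k A] [Algebra.FormallySmooth k B]
    (h : maximalIdeal A ≤ (maximalIdeal B).comap (algebraMap A B).toIntAlgHom) :
    Function.Injective (Ideal.mapCotangent (maximalIdeal A) (maximalIdeal B) (algebraMap A B).toIntAlgHom h) ↔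
      Function.Injective ((mapBaseChange k A B).lTensor (ResidueField B)) := by
  obtain ⟨eA, heA⟩ := exists_conormal_equiv (A := A) (ResidueField B) hB (maximalIdeal A) (ker_residue_comp hB)
  obtain ⟨eB, heB⟩ := exists_conormal_equiv (A := B) (ResidueField B) hB (maximalIdeal B) IsLocalRing.ker_residue
  let c := (AlgebraTensorModule.cancelBaseChange A B (ResidueField B) (ResidueField B) Ω[A⁄k]).symm
  have key : ∀ z, (mapBaseChange k A B).lTensor (ResidueField B) (c (eA z)) =
      eB (Ideal.mapCotangent (maximalIdeal A) (maximalIdeal B) (algebraMap A B).toIntAlgHom h z) := by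
    intro z
    obtain ⟨a, rfl⟩ := Ideal.toCotangent_surjective _ z
    rw [heA, Ideal.mapCotangent_toCotangent, heB, show c (1 ⊗ₜ D k A a.1) = (1 : ResidueField B) ⊗ₜ ((1 : B) ⊗ₜ D k A a.1) from
        AlgebraTensorModule.cancelBaseChange_symm_tmul _ _ _ _ _, LinearMap.lTensor_tmul, mapBaseChange_tmul,
      one_smul, KaehlerDifferential.map_D]
    rfl
  have key' : ((mapBaseChange k A B).lTensor (ResidueField B)) ∘ (c ∘ eA) =
      eB ∘ Ideal.mapCotangent (maximalIdeal A) (maximalIdeal B) (algebraMap A B).toIntAlgHom h := funext key
  rw [← Function.Injective.of_comp_iff' _ (c.bijective.comp eA.bijective), key',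
    eB.injective.of_comp_iff]

include hB in
/-- Injectivity of the cotangent map gives formal smoothness. -/
theorem formallySmooth_of_injective [Algebra.FormallySmooth k A] [Algebra.EssFiniteType k A]
    [Algebra.FormallySmooth k B] [Algebra.EssFiniteType k B]
    (hinj : Function.Injective ((mapBaseChange k A B).lTensor (ResidueField B))) : Algebra.FormallySmooth A B := by
  haveI : Module.Free B Ω[B⁄k] := Module.free_of_flat_of_isLocalRing
  obtain ⟨l, hl⟩ := (IsLocalRing.split_injective_iff_lTensor_residueField_injective (mapBaseChange k A B)).2 hinj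
  have hex : Function.Exact (mapBaseChange k A B) (KaehlerDifferential.map k A B B) :=
    KaehlerDifferential.exact_mapBaseChange_map k A B
  have hi : Function.Injective (mapBaseChange k A B) :=
    Function.HasLeftInverse.injective ⟨l, LinearMap.congr_fun hl⟩
  obtain ⟨-, s, hs⟩ := (hex.split_tfae'.out 1 0 rfl rfl).1 ⟨KaehlerDifferential.map_surjective k A B, l, hl⟩
  refine ⟨Module.Projective.of_split s _ hs, ⟨fun a b => ?_⟩⟩
  have h0 : ∀ w, w = (0 : Algebra.H1Cotangent A B) := fun w => by
    have h1 : Algebra.H1Cotangent.δ k A B w = 0 :=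
      hi (((Algebra.H1Cotangent.exact_δ_mapBaseChange k A B) _).2 ⟨w, rfl⟩ |>.trans (map_zero _).symm)
    obtain ⟨v, rfl⟩ := ((Algebra.H1Cotangent.exact_map_δ k A B) w).1 h1
    rw [Subsingleton.elim v 0, map_zero]
  rw [h0 a, h0 b]

include hB in
/-- Formal smoothness gives injectivity of the cotangent map. -/
theorem injective_of_formallySmooth [Algebra.FormallySmooth k A] [Algebra.EssFiniteType k A]
    [Algebra.FormallySmooth k B] [Algebra.EssFiniteType k B] [Algebra.FormallySmooth A B] :
    Function.Injective ((mapBaseChange k A B).lTensor (ResidueField B)) := by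
  haveI : Module.Free B Ω[B⁄k] := Module.free_of_flat_of_isLocalRing
  refine (IsLocalRing.split_injective_iff_lTensor_residueField_injective (mapBaseChange k A B)).1 ?_
  obtain ⟨s, hs⟩ := Module.projective_lifting_property (KaehlerDifferential.map k A B B) LinearMap.id
    (KaehlerDifferential.map_surjective k A B)
  have hi : Function.Injective (mapBaseChange k A B) := by
    refine (injective_iff_map_eq_zero _).2 fun z hz => ?_
    obtain ⟨w, rfl⟩ := ((Algebra.H1Cotangent.exact_δ_mapBaseChange k A B) z).1 hz
    rw [Subsingleton.elim w 0, map_zero]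
  exact ((KaehlerDifferential.exact_mapBaseChange_map k A B).split_tfae'.out 0 1 rfl rfl).1 ⟨hi, s, hs⟩ |>.2

include hB in
/-- Few relative differentials force injectivity. -/
theorem injective_of_span [Algebra.FormallySmooth k A] [Algebra.EssFiniteType k A]
    [Algebra.FormallySmooth k B] [Algebra.EssFiniteType k B] {n dA : ℕ}
    (hA : Module.finrank A Ω[A⁄k] = dA) (hBn : Module.finrank B Ω[B⁄k] = dA + n)
    (v : Fin n → Ω[B⁄A]) (hv : Submodule.span B (Set.range v) = ⊤) :
    Function.Injective ((mapBaseChange k A B).lTensor (ResidueField B)) := by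
  haveI : Module.Free A Ω[A⁄k] := Module.free_of_flat_of_isLocalRing
  haveI : Module.Free B Ω[B⁄k] := Module.free_of_flat_of_isLocalRing
  let K := ResidueField B
  let f := (mapBaseChange k A B).baseChange K
  let g := (KaehlerDifferential.map k A B B).baseChange K
  show Function.Injective f
  have hex : Function.Exact f g :=
    lTensor_exact K (KaehlerDifferential.exact_mapBaseChange_map k A B) (KaehlerDifferential.map_surjective k A B)
  have hd : Module.finrank K (K ⊗[B] (B ⊗[A] Ω[A⁄k])) = dA := by
    rw [Module.finrank_baseChange, Module.finrank_baseChange, hA]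
  have hc : Module.finrank K (K ⊗[B] Ω[B⁄k]) = dA + n := by rw [Module.finrank_baseChange, hBn]
  have htop : Submodule.span K (Set.range fun i => (1 : K) ⊗ₜ[B] v i) = ⊤ := by
    rw [Set.range_comp' (fun w => (1 : K) ⊗ₜ[B] w) v]
    exact (Submodule.baseChange_span (A := K) (Set.range v)).symm.trans (by rw [hv, Submodule.baseChange_top])
  haveI : FiniteDimensional K (K ⊗[B] Ω[B⁄A]) :=
    Module.Finite.of_fg_top (htop ▸ Submodule.fg_span (Set.finite_range _))
  have hn : Module.finrank K (LinearMap.range g) ≤ n := by
    refine (Submodule.finrank_le _).trans ?_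
    rw [← finrank_top K (K ⊗[B] Ω[B⁄A]), ← htop]
    exact (finrank_range_le_card _).trans (le_of_eq (Fintype.card_fin n))
  have h1 := LinearMap.finrank_range_add_finrank_ker g
  rw [LinearMap.exact_iff.1 hex, hc] at h1
  have h2 := LinearMap.finrank_range_add_finrank_ker f
  rw [hd] at h2
  rw [← LinearMap.ker_eq_bot, ← Submodule.finrank_eq_zero]
  omega

end SmoothPtLib
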